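import Cfsg.Agent.Mrg.Omega.NO3S.SOne.KA
import Cfsg.Agent.Mrg.Omega.NO3S.SOne.PairBad
import Cfsg.Agent.Lib.SylowNormalInf


/-!
# GammaFF, (S1): the KEY with radicals, part 1: the passive type

`KF S P R V F` : `P`, `R ∈ P*(S)`, `⟨P, R⟩ ≤ N_G(V)`, `F` maximal bad, `W = W_F ≤ S`, `P` passive, `R` active.

**`KF.false_of`** : for `g ∈ R`, `p ∈ P`, `W' = W^(g⁻¹)`, `F' = F^(g⁻¹)`, `E' = E_(F')` the following is impossible:

* `[V_P^x, W] ≤ V_R` for `x ∈ R`;
* every element of `W'` acts on `V_R` as an element of `S ∩ ⟨W^R⟩`;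
* `C_Z(R) ≠ 1`, and `V_R^p ≰ E'`.
-/

set_option autoImplicit false
set_option linter.unusedSectionVars false

namespace Cfsg.Agent.Omega.NO3S.SOne.KeyLe

open Subgroup Cfsg Cfsg.Agent.ZN Cfsg.Agent.Omega.MinPar
open Cfsg.Agent.Omega.NOne.Flat (EE NN conj_eq_of_norm conj_centralizer WW_conj EE_conj o2_conj)
open Cfsg.Agent.Omega.NOne.NearFF (c c_def)
open Cfsg.Agent.Omega.NoFF.Basic (conj_conj mem_conj conj_le_iff conj_le_centralizer comm_symm V_le Z_le_V conj_V_mul)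
open Cfsg.Agent.Omega.NOThreeL.Low.Key (BH)
open scoped Pointwise

universe u

variable {G : Type u} [Group G]

/-- **The frame.** -/
structure KF [Finite G] (S : Sylow 2 G) (P R V F : Subgroup G) : Prop where
  hc : IsCharacteristicTwoType G
  hyp : NOne.Flat.Hyp V F
  hP : IsParS (S : Subgroup G) P
  hR : IsParS (S : Subgroup G) R
  PV : P ≤ normalizer (V : Set G)
  RV : R ≤ normalizer (V : Set G)
  ZV : zc (S : Subgroup G) ≤ V
  WS : NOne.Flat.WW V F ≤ (S : Subgroup G)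
  /-- passivity of `P` -/
  pas : ∀ y ∈ P ⊔ R, MulAut.conj y • NOne.Flat.WW V F ≤ (S : Subgroup G) → MulAut.conj y • NOne.Flat.WW V F ≤ o2 P
  act : ¬ NOne.Flat.WW V F ≤ o2 R

/-- `⟨W^R⟩` -/
abbrev L0 (V F R : Subgroup G) : Subgroup G := NoFF.Basic.V (NOne.Flat.WW V F) R

/-- `N ≤ S K` for a normal subgroup `N` of `R ≥ S`, if `K ≤ N` is normal in `N` and contains all squares of `N`. -/
theorem le_sup_of_sq [Finite G] (S : Sylow 2 G) {R N K : Subgroup G} (hSR : (S : Subgroup G) ≤ R) (hNR : N ≤ R)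
    (hN : R ≤ normalizer (N : Set G)) (hK : N ≤ normalizer (K : Set G)) (hsq : ∀ n ∈ N, n ^ 2 ∈ K) :
    N ≤ (S : Subgroup G) ⊔ K := by
  have : Fact (Nat.Prime 2) := ⟨Nat.prime_two⟩
  have h1 : ¬ 2 ∣ (S : Subgroup G).relIndex N := by
    have : (N.subgroupOf R).Normal := normal_subgroupOf_of_le_normalizer hN
    have h2 := Lib.SylowNormalInf.not_dvd_relIndex (S.subtype hSR) (N.subgroupOf R)
    rwa [Sylow.coe_subtype, relIndex_subgroupOf hNR] at h2
  have h2 : ((S : Subgroup G) ⊔ K).relIndex N ∣ (S : Subgroup G).relIndex N := relIndex_dvd_of_le_left N le_sup_left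
  have h3 : ((S : Subgroup G) ⊔ K).relIndex N ∣ K.relIndex N := relIndex_dvd_of_le_left N le_sup_right
  have hn : (K.subgroupOf N).Normal := normal_subgroupOf_of_le_normalizer hK
  have h4 : IsPGroup 2 (N ⧸ K.subgroupOf N) := by
    intro x
    refine Quotient.inductionOn' x fun n => ⟨1, ?_⟩
    rw [pow_one]
    change ((QuotientGroup.mk n : N ⧸ K.subgroupOf N)) ^ 2 = 1
    rw [← QuotientGroup.mk_pow, QuotientGroup.eq_one_iff, mem_subgroupOf]
    exact hsq n n.2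
  obtain ⟨m, hm⟩ := h4.exists_card_eq
  rw [show K.relIndex N = 2 ^ m by rw [relIndex, index_eq_card, hm]] at h3
  obtain ⟨j, -, hj⟩ := (Nat.dvd_prime_pow Nat.prime_two).1 h3
  have h5 : j = 0 := by
    by_contra hj0
    apply h1
    refine dvd_trans ?_ h2
    rw [hj]
    exact dvd_pow_self 2 hj0
  rw [h5, pow_zero] at hj
  exact relIndex_eq_one.1 hj

theorem le_normalizer_inf {X A B : Subgroup G} (hA : X ≤ normalizer (A : Set G)) (hB : X ≤ normalizer (B : Set G)) :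
    X ≤ normalizer ((A ⊓ B : Subgroup G) : Set G) :=
  (le_inf hA hB).trans inf_normalizer_le_normalizer_inf

theorem le_normalizer_cent {X A : Subgroup G} (hA : X ≤ normalizer (A : Set G)) :
    X ≤ normalizer (centralizer (A : Set G) : Set G) := by
  have h1 : ∀ x ∈ X, ∀ y ∈ centralizer (A : Set G), x * y * x⁻¹ ∈ centralizer (A : Set G) := by
    intro x hx y hy
    rw [mem_centralizer_iff]
    intro a ha
    have h2 := (mem_normalizer_iff.1 (hA (inv_mem hx)) a).1 ha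
    rw [inv_inv] at h2
    have h3 := mem_centralizer_iff.1 hy _ h2
    calc a * (x * y * x⁻¹) = x * (x⁻¹ * a * x * y) * x⁻¹ := by group
      _ = x * (y * (x⁻¹ * a * x)) * x⁻¹ := by rw [h3]
      _ = x * y * x⁻¹ * a := by group
  intro x hx
  refine mem_normalizer_iff.2 fun y => ⟨h1 x hx y, fun hy => ?_⟩
  have h2 := h1 x⁻¹ (inv_mem hx) _ hy
  have e : x⁻¹ * (x * y * x⁻¹) * x⁻¹⁻¹ = y := by group
  rwa [e] at h2

namespace KF

variable [Finite G] {S : Sylow 2 G} {P R V F : Subgroup G} (h : KF S P R V F)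
include h

theorem SP : (S : Subgroup G) ≤ P := h.hP.le

theorem SR : (S : Subgroup G) ≤ R := h.hR.le

theorem o2P_eq : (S : Subgroup G) ⊓ centralizer (zl (S : Subgroup G) P : Set G) = o2 P := h.hP.inf_centralizer S h.hc

theorem o2R_eq : (S : Subgroup G) ⊓ centralizer (zl (S : Subgroup G) R : Set G) = o2 R := h.hR.inf_centralizer S h.hc

theorem WR : NOne.Flat.WW V F ≤ R := h.WS.trans h.SR

theorem W_le_L0 : NOne.Flat.WW V F ≤ L0 V F R := by
  have h1 := Z_le_V (Z := NOne.Flat.WW V F) (one_mem R)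
  rwa [map_one, one_smul] at h1

theorem L0_le : L0 V F R ≤ R := by
  refine V_le fun r hr => ?_
  have h1 := conj_le_iff (g := r).2 h.WR
  rwa [NoFF.Basic.conj_self hr] at h1

omit h in
theorem L0_norm : R ≤ normalizer (L0 V F R : Set G) := by
  intro r hr
  have h1 := conj_V_mul (Z := NOne.Flat.WW V F) (g := 1) hr
  rw [one_mul, map_one, one_smul] at h1
  have h2 : ∀ n, n ∈ L0 V F R → r * n * r⁻¹ ∈ L0 V F R := by
    intro n hn
    rw [L0, ← h1, mem_conj]
    have e : r⁻¹ * (r * n * r⁻¹) * r = n := by group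
    rwa [e]
  have h3 := conj_V_mul (Z := NOne.Flat.WW V F) (g := 1) (inv_mem hr)
  rw [one_mul, map_one, one_smul] at h3
  refine mem_normalizer_iff.2 fun n => ⟨h2 n, fun hn => ?_⟩
  rw [L0, ← h3, mem_conj, inv_inv]
  exact hn

/-- `R = ⟨W^R⟩ S` -/
theorem L0_sup : L0 V F R ⊔ (S : Subgroup G) = R := by
  rcases h.hR.sup_eq_or_inf_le S h.L0_le L0_norm with h1 | h1
  · exact h1
  · exact absurd ((le_inf h.WS h.W_le_L0).trans h1) h.act

theorem L_le_V : zl (S : Subgroup G) R ≤ V := MinSimple.VModule.zl_le h.ZV h.RV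

theorem VP_le_V : zl (S : Subgroup G) P ≤ V := MinSimple.VModule.zl_le h.ZV h.PV

theorem RL {r v : G} (hr : r ∈ R) (hv : v ∈ zl (S : Subgroup G) R) : r * v * r⁻¹ ∈ zl (S : Subgroup G) R :=
  (mem_normalizer_iff.1 (MinSimple.VModule.le_normalizer_zl _ _ hr) v).1 hv

theorem RL' {r v : G} (hr : r ∈ R) (hv : v ∈ zl (S : Subgroup G) R) : r⁻¹ * v * r ∈ zl (S : Subgroup G) R := by
  have := h.RL (inv_mem hr) hv
  rwa [inv_inv] at this

/-- **(a)** `[V_P, ⟨W^R⟩] ≤ V_R` -/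
theorem comm_L0 (hI : ∀ x ∈ R, ∀ v ∈ MulAut.conj x • zl (S : Subgroup G) P, ∀ w ∈ NOne.Flat.WW V F,
    c v w ∈ zl (S : Subgroup G) R) {x v : G} (hx : x ∈ L0 V F R) (hv : v ∈ zl (S : Subgroup G) P) :
    x * v * x⁻¹ * v⁻¹ ∈ zl (S : Subgroup G) R := by
  let A : Subgroup G :=
    { carrier := {x | x ∈ R ∧ ∀ v ∈ zl (S : Subgroup G) P, x * v * x⁻¹ * v⁻¹ ∈ zl (S : Subgroup G) R}
      one_mem' := ⟨one_mem _, fun v _ => by
        have e : (1 : G) * v * 1⁻¹ * v⁻¹ = 1 := by group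
        rw [e]; exact one_mem _⟩
      mul_mem' := by
        rintro a b ⟨ha, ha'⟩ ⟨hb, hb'⟩
        refine ⟨mul_mem ha hb, fun v hv => ?_⟩
        have e : a * b * v * (a * b)⁻¹ * v⁻¹ = a * (b * v * b⁻¹ * v⁻¹) * a⁻¹ * (a * v * a⁻¹ * v⁻¹) := by group
        rw [e]
        exact mul_mem (h.RL ha (hb' v hv)) (ha' v hv)
      inv_mem' := by
        rintro a ⟨ha, ha'⟩
        refine ⟨inv_mem ha, fun v hv => ?_⟩
        have e : a⁻¹ * v * a⁻¹⁻¹ * v⁻¹ = a⁻¹ * (a * v * a⁻¹ * v⁻¹)⁻¹ * a := by group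
        rw [e]
        exact h.RL' ha (inv_mem (ha' v hv)) }
  have h1 : L0 V F R ≤ A := by
    refine V_le fun r hr => ?_
    intro y hy
    rw [mem_conj] at hy
    refine ⟨mul_mem_cancel_left (inv_mem hr) |>.1 ?_, fun v hv => ?_⟩
    · have h2 := mul_mem (h.WR hy) (inv_mem hr)
      have e : r⁻¹ * y * r * r⁻¹ = r⁻¹ * y := by group
      rwa [e] at h2
    · have h2 : r⁻¹ * v * r ∈ MulAut.conj r⁻¹ • zl (S : Subgroup G) P := by
        rw [mem_conj]
        have e : r⁻¹⁻¹ * (r⁻¹ * v * r) * r⁻¹ = v := by group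
        rwa [e]
      have h3 := inv_mem (hI r⁻¹ (inv_mem hr) _ h2 _ hy)
      have h4 := h.RL hr h3
      have e : r * (c (r⁻¹ * v * r) (r⁻¹ * y * r))⁻¹ * r⁻¹ = y * v * y⁻¹ * v⁻¹ := by rw [c_def]; group
      rwa [e] at h4
  exact (h1 hx).2 v hv

/-- **Part 1.** -/
theorem cent_VP (hI : ∀ x ∈ R, ∀ v ∈ MulAut.conj x • zl (S : Subgroup G) P, ∀ w ∈ NOne.Flat.WW V F,
    c v w ∈ zl (S : Subgroup G) R) {g : G} (hg : g ∈ R)
    (hw : ∀ w ∈ MulAut.conj g⁻¹ • NOne.Flat.WW V F, ∃ s ∈ (S : Subgroup G), s ∈ L0 V F R ∧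
      s⁻¹ * w ∈ centralizer (zl (S : Subgroup G) R : Set G)) :
    MulAut.conj g⁻¹ • NOne.Flat.WW V F ≤ centralizer (zl (S : Subgroup G) P : Set G) := by
  set L := zl (S : Subgroup G) R with hL
  set VP := zl (S : Subgroup G) P with hVP
  set W' := MulAut.conj g⁻¹ • NOne.Flat.WW V F with hW'
  have hW'L : W' ≤ L0 V F R := Z_le_V (inv_mem hg)
  set N := L0 V F R ⊓ centralizer (L : Set G) with hN
  set K := N ⊓ centralizer (VP : Set G) with hK
  have hLsq : ∀ l ∈ L, l * l = 1 := fun l hl => h.hyp.sq' (h.L_le_V hl)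
  have hNR : N ≤ R := inf_le_left.trans h.L0_le
  have hRN : R ≤ normalizer (N : Set G) :=
    le_normalizer_inf L0_norm (le_normalizer_cent (MinSimple.VModule.le_normalizer_zl _ _))
  -- `[v, n] ∈ L`
  have hvn : ∀ n ∈ N, ∀ v ∈ VP, ∃ l ∈ L, n * v * n⁻¹ = l * v := by
    intro n hn v hv
    exact ⟨_, h.comm_L0 hI hn.1 hv, by group⟩
  have hnl : ∀ n ∈ N, ∀ l ∈ L, n * l * n⁻¹ = l := by
    intro n hn l hl
    rw [← mem_centralizer_iff.1 hn.2 l hl, mul_inv_cancel_right]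
  have hNK : N ≤ normalizer (K : Set G) := by
    have h1 : ∀ n ∈ N, ∀ k ∈ K, n * k * n⁻¹ ∈ K := by
      intro n hn k hk
      refine mem_inf.2 ⟨mul_mem (mul_mem hn (mem_inf.1 hk).1) (inv_mem hn), mem_centralizer_iff.2 fun v hv => ?_⟩
      obtain ⟨l, hl, e⟩ := hvn n⁻¹ (inv_mem hn) v hv
      rw [inv_inv] at e
      have e1 : k * (n⁻¹ * v * n) = n⁻¹ * v * n * k := by
        rw [e]
        have h2 := mem_centralizer_iff.1 hk.2 v hv
        have h3 := mem_centralizer_iff.1 hk.1.2 l hl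
        calc k * (l * v) = k * l * v := by group
          _ = l * k * v := by rw [h3]
          _ = l * (k * v) := by group
          _ = l * (v * k) := by rw [h2]
          _ = l * v * k := by group
      calc v * (n * k * n⁻¹) = n * (n⁻¹ * v * n * k) * n⁻¹ := by group
        _ = n * (k * (n⁻¹ * v * n)) * n⁻¹ := by rw [e1]
        _ = n * k * n⁻¹ * v := by group
    intro n hn
    refine mem_normalizer_iff.2 fun k => ⟨h1 n hn k, fun hk => ?_⟩
    have h2 := h1 n⁻¹ (inv_mem hn) _ hk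
    have e : n⁻¹ * (n * k * n⁻¹) * n⁻¹⁻¹ = k := by group
    rwa [e] at h2
  have hsq : ∀ n ∈ N, n ^ 2 ∈ K := by
    intro n hn
    refine ⟨pow_mem hn 2, mem_centralizer_iff.2 fun v hv => ?_⟩
    obtain ⟨l, hl, e⟩ := hvn n hn v hv
    have e1 : n ^ 2 * v * (n ^ 2)⁻¹ = v := by
      calc n ^ 2 * v * (n ^ 2)⁻¹ = n * (n * v * n⁻¹) * n⁻¹ := by rw [pow_two]; group
        _ = n * (l * v) * n⁻¹ := by rw [e]
        _ = n * l * n⁻¹ * (n * v * n⁻¹) := by group
        _ = l * (l * v) := by rw [hnl n hn l hl, e]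
        _ = v := by rw [← mul_assoc, hLsq l hl, one_mul]
    exact (mul_inv_eq_iff_eq_mul.1 e1).symm
  have hNS := le_sup_of_sq S h.SR hNR hRN (K := K) hNK hsq
  -- `S` normalises `K`
  have hSK : (S : Subgroup G) ≤ normalizer (K : Set G) :=
    le_normalizer_inf (h.SR.trans hRN)
      (le_normalizer_cent (h.SP.trans (MinSimple.VModule.le_normalizer_zl _ _)))
  have hW'SK : W' ≤ (S : Subgroup G) ⊔ K := by
    intro w hw1
    obtain ⟨s, hs, hsL, hsw⟩ := hw w hw1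
    have h1 : s⁻¹ * w ∈ N := mem_inf.2 ⟨mul_mem (inv_mem hsL) (hW'L hw1), hsw⟩
    have e : w = s * (s⁻¹ * w) := by group
    rw [e]
    exact mul_mem ((le_sup_left : _ ≤ (S : Subgroup G) ⊔ K) hs) (hNS h1)
  have hW'2 : IsPGroup 2 W' := (S.isPGroup'.to_le h.WS).map _
  obtain ⟨m, hm, hmS⟩ := FFThm.exists_conj_le S (le_sup_left : (S : Subgroup G) ≤ (S : Subgroup G) ⊔ K) hW'2 hW'SK
  rw [← SetLike.mem_coe, coe_mul_of_left_le_normalizer_right _ _ hSK, Set.mem_mul] at hm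
  obtain ⟨s, hs, k, hk, rfl⟩ := hm
  have h1 : MulAut.conj k • W' ≤ (S : Subgroup G) := by
    have h2 : MulAut.conj s • (MulAut.conj k • W') ≤ (S : Subgroup G) := by rw [conj_conj]; exact hmS
    have h3 := conj_le_iff (g := s⁻¹).2 h2
    rwa [conj_inv_smul, NoFF.Basic.conj_self (inv_mem hs)] at h3
  have hk' : k ∈ K := hk
  have h2 : MulAut.conj k • W' ≤ o2 P := by
    rw [hW', conj_conj] at h1 ⊢
    exact h.pas _ (mul_mem ((le_sup_right : R ≤ P ⊔ R) (hNR hk'.1)) ((le_sup_right : R ≤ P ⊔ R) (inv_mem hg))) h1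
  have h3 : MulAut.conj k • W' ≤ centralizer (VP : Set G) := by
    rw [← h.o2P_eq] at h2
    exact h2.trans inf_le_right
  have h4 : MulAut.conj k⁻¹ • VP = VP :=
    NOne.Flat.conj_eq_of_cent (centralizer_le le_rfl (inv_mem hk'.2))
  have h5 := conj_le_centralizer (g := k⁻¹) h3
  rwa [conj_inv_smul, h4] at h5

/-- **Part 2.** -/
theorem false_of (hI : ∀ x ∈ R, ∀ v ∈ MulAut.conj x • zl (S : Subgroup G) P, ∀ w ∈ NOne.Flat.WW V F,
    c v w ∈ zl (S : Subgroup G) R) {g p : G} (hg : g ∈ R) (hp : p ∈ P)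
    (hw : ∀ w ∈ MulAut.conj g⁻¹ • NOne.Flat.WW V F, ∃ s ∈ (S : Subgroup G), s ∈ L0 V F R ∧
      s⁻¹ * w ∈ centralizer (zl (S : Subgroup G) R : Set G))
    (hd : zc (S : Subgroup G) ⊓ centralizer (R : Set G) ≠ ⊥)
    (hbad : ¬ MulAut.conj p • zl (S : Subgroup G) R ≤ EE V (MulAut.conj g⁻¹ • F)) : False := by
  have hgV := h.RV (inv_mem hg)
  have hy := h.hyp.conj hgV
  have hWW : NOne.Flat.WW V (MulAut.conj g⁻¹ • F) = MulAut.conj g⁻¹ • NOne.Flat.WW V F := (WW_conj hgV).symm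
  have h1 := h.cent_VP hI hg hw
  have h2 : zl (S : Subgroup G) P ≤ MulAut.conj g⁻¹ • F := by
    rw [← hy.cent_VW, hWW]
    exact le_inf h.VP_le_V (comm_symm h1)
  obtain ⟨⟨d, hd⟩, hd1⟩ := (Subgroup.ne_bot_iff_exists_ne_one).1 hd
  have hd1' : d ≠ 1 := fun h0 => hd1 (Subtype.ext h0)
  have hdZ := hd.1
  have hdF : p * d * p⁻¹ ∈ MulAut.conj g⁻¹ • F :=
    h2 ((mem_normalizer_iff.1 (MinSimple.VModule.le_normalizer_zl _ _ hp) d).1 (MinSimple.VModule.zc_le_zl _ _ hdZ))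
  have hdm := ChoiceBase.mem_zc.1 hdZ
  have hRd : R ≤ centralizer ({d} : Set G) := by
    intro r hr
    rw [mem_centralizer_singleton_iff]
    exact mem_centralizer_iff.1 hd.2 r hr
  have hloc : IsLoc (S : Subgroup G) (centralizer ({d} : Set G)) := isLoc_centralizer S hdm.2.1 hd1' (h.SR.trans hRd)
  have h3 : zl (S : Subgroup G) R ≤ o2 (centralizer ({d} : Set G)) := by
    have h4 : zl (S : Subgroup G) R ≤ zl (S : Subgroup G) (centralizer ({d} : Set G)) :=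
      MinSimple.VModule.zl_le (MinSimple.VModule.zc_le_zl _ _)
        (hRd.trans (MinSimple.VModule.le_normalizer_zl _ _))
    exact h4.trans ((hloc.zl_le S h.hc).trans (MinSimple.VModule.zc_le _))
  have hle : MulAut.conj p • zl (S : Subgroup G) R ≤ V := by
    rw [← conj_eq_of_norm (h.PV hp)]
    exact conj_le_iff.2 h.L_le_V
  apply hbad
  have h5 : MulAut.conj p • zl (S : Subgroup G) R ≤ o2 (MulAut.conj p • centralizer ({d} : Set G)) := by
    rw [← o2_conj]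
    exact conj_le_iff.2 h3
  have h6 : centralizer ((MulAut.conj g⁻¹ • F : Subgroup G) : Set G) ≤ MulAut.conj p • centralizer ({d} : Set G) := by
    intro x hx
    rw [mem_conj, mem_centralizer_iff]
    intro y hy
    rw [Set.mem_singleton_iff.1 hy]
    have h4 := mem_centralizer_iff.1 hx _ hdF
    have h5 : p⁻¹ * (p * d * p⁻¹ * x) * p = p⁻¹ * (x * (p * d * p⁻¹)) * p := by rw [h4]
    simpa [mul_assoc] using h5
  exact le_inf hle ((le_inf h5 (hle.trans hy.V_le_X)).trans (inf_o2_le h6))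

end KF

end Cfsg.Agent.Omega.NO3S.SOne.KeyLe
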